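import Groth.Agent.K0Coh.Basic
import Groth.Agent.Devissage.Apply
import Groth.Agent.CycK0.Main
import Groth.Agent.CycDim.Basic
import Groth.Agent.SupportLib.Pull
import Groth.Agent.LocFree.SemiLocal
import Groth.Agent.S2297
import Groth.Agent.Devissage.Serre
import Groth.Prelude.Def_ChowK

/-!
# The dimension filtration of the Grothendieck group of coherent modules
-/

set_option autoImplicit false
set_option linter.style.haveILetI false
set_option backward.isDefEq.respectTransparency false
set_option backward.isDefEq.respectTransparency.types false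

universe u

open CategoryTheory CategoryTheory.Limits AlgebraicGeometry TopologicalSpace TensorProduct

noncomputable section

namespace Groth.Agent.K0Filt

variable {X : Scheme.{u}} [IsNoetherian X]

local notation "C[" M "]" => KZero.clSub (fun N : _ => Coh.IsCoh N) M

instance isoClosed : ObjectProperty.IsClosedUnderIsomorphisms (fun N : X.Modules => Coh.IsCoh N) :=
  ⟨fun e h => K0Coh.isCoh_of_iso e h⟩

theorem cl_add {S : ShortComplex X.Modules} (hS : S.ShortExact) (h₁ : Coh.IsCoh S.X₁) (h₂ : Coh.IsCoh S.X₂)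
    (h₃ : Coh.IsCoh S.X₃) : C[S.X₂] = C[S.X₁] + C[S.X₃] :=
  K0DerSub.cl_add (P := fun N : X.Modules => Coh.IsCoh N) hS h₁ h₂ h₃

theorem cl_zero {N : X.Modules} (hN : IsZero N) : C[N] = 0 := by
  let T : ShortComplex X.Modules := ShortComplex.mk (0 : N ⟶ N) (0 : N ⟶ N) (comp_zero)
  have hT : T.ShortExact :=
    { exact := ShortComplex.exact_of_isZero_X₂ _ hN
      mono_f := ⟨fun _ _ _ => hN.eq_of_tgt _ _⟩
      epi_g := ⟨fun _ _ _ => hN.eq_of_src _ _⟩ }
  have h := K0Coh.isCoh_of_isZero hN
  exact left_eq_add.1 (show C[N] = C[N] + C[N] from cl_add hT h h h)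

theorem support_closure (ζ : X) : CohB1.support (Cyc.closureStructureSheaf ζ) ⊆ closure {ζ} := fun x hx => by
  by_contra h
  exact (ClSubLib.notMem_support_iff_isZero _ x).2
    (CycK0.isZero_closure_st fun hs => h (specializes_iff_mem_closure.1 hs)) hx

/-- Additive invariants of coherent modules supported in a closed set are determined on closures of points. -/
theorem mem_of_generators {Y : Set X} (hY : IsClosed Y) {G : Type*} [AddCommGroup G] (H : AddSubgroup G)
    (Φ : X.Modules → G) (h0 : ∀ N : X.Modules, IsZero N → Φ N = 0)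
    (hadd : ∀ S : ShortComplex X.Modules, S.ShortExact → Coh.IsCoh S.X₁ → Coh.IsCoh S.X₂ → Coh.IsCoh S.X₃ →
      CohB1.support S.X₂ ⊆ Y → Φ S.X₂ = Φ S.X₁ + Φ S.X₃)
    (hgen : ∀ ξ ∈ Y, Φ (Cyc.closureStructureSheaf ξ) ∈ H)
    (M : X.Modules) (hM : Coh.IsCoh M) (hMY : CohB1.support M ⊆ Y) : Φ M ∈ H := by
  refine Devissage.twothree (fun N => Φ N ∈ H) (fun N hN => by rw [h0 N hN]; exact H.zero_mem) ⟨Y, hY⟩
    (fun S hS c₁ c₂ c₃ hs => ?_) (fun ξ hξ => Or.inr ?_) M hM hMY
  · have e := hadd S hS c₁ c₂ c₃ hs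
    refine ⟨fun h1 h2 => ?_, fun h1 h3 => ?_, fun h2 h3 => ?_⟩
    · show Φ S.X₃ ∈ H
      rw [eq_sub_of_add_eq' e.symm]
      exact H.sub_mem h2 h1
    · show Φ S.X₂ ∈ H
      rw [e]
      exact H.add_mem h1 h3
    · show Φ S.X₁ ∈ H
      rw [eq_sub_of_add_eq e.symm]
      exact H.sub_mem h2 h3
  · obtain ⟨h1, h2⟩ := Devissage.simpleAt_of_length (CycK0.length_closure ξ)
    exact ⟨_, CycK0.isCoh_closureStructureSheaf ξ, support_closure ξ, h2, h1, hgen ξ hξ⟩

theorem dim_mono {A B : Set X} (h : A ⊆ B) : topologicalKrullDim ↥A ≤ topologicalKrullDim ↥B :=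
  (Topology.IsEmbedding.inclusion h).isInducing.topologicalKrullDim_le

theorem dim_closure_le {Y : Set X} (hY : IsClosed Y) {x : X} (hx : x ∈ Y) :
    topologicalKrullDim ↥(closure {x}) ≤ topologicalKrullDim ↥Y :=
  dim_mono (closure_minimal (Set.singleton_subset_iff.2 hx) hY)

/-- Closures strictly increase in dimension under generization. -/
theorem eq_of_dim_le {x y : X} {n : ℕ} (h : y ⤳ x) (hx : (n : WithBot ℕ∞) ≤ topologicalKrullDim ↥(closure {x}))
    (hy : topologicalKrullDim ↥(closure {y}) ≤ n) : y = x := by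
  by_contra hne
  have hxy : (closure {x} : Set X) ⊆ closure {y} :=
    closure_minimal (Set.singleton_subset_iff.2 h.mem_closure) isClosed_closure
  have hlt : (closure {x} : Set X) ≠ closure {y} := fun e => hne ((Inseparable.eq (inseparable_iff_closure_eq.2 e)).symm)
  let i : ↥(closure ({x} : Set X)) → ↥(closure ({y} : Set X)) := Set.inclusion hxy
  have hi : Topology.IsClosedEmbedding i :=
    ⟨Topology.IsEmbedding.inclusion hxy, by
      rw [Set.range_inclusion]
      exact isClosed_closure.preimage continuous_subtype_val⟩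
  have hmap : StrictMono (IrreducibleCloseds.map i hi.continuous) :=
    IrreducibleCloseds.map_strictMono_of_isInducing hi.isInducing
  haveI : IrreducibleSpace ↥(closure ({y} : Set X)) :=
    isIrreducible_iff_irreducibleSpace.1 isIrreducible_singleton.closure
  let top : IrreducibleCloseds ↥(closure ({y} : Set X)) :=
    ⟨Set.univ, IrreducibleSpace.isIrreducible_univ _, isClosed_univ⟩
  have hbound : ∀ Z : IrreducibleCloseds ↥(closure ({x} : Set X)),
      IrreducibleCloseds.map i hi.continuous Z < top := fun Z => by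
    refine lt_of_le_of_ne (fun z _ => trivial) fun e => hlt (hxy.antisymm fun z hz => ?_)
    have h1 : (⟨z, hz⟩ : ↥(closure ({y} : Set X))) ∈ (IrreducibleCloseds.map i hi.continuous Z : Set _) := by
      rw [e]; trivial
    have h2 : (⟨z, hz⟩ : ↥(closure ({y} : Set X))) ∈ Set.range i :=
      closure_minimal (Set.image_subset_range _ _) hi.isClosed_range h1
    obtain ⟨w, hw⟩ := h2
    have h3 : (w : X) = z := congrArg Subtype.val hw
    exact h3 ▸ w.2
  obtain ⟨c, hc⟩ := Order.le_krullDim_iff.1 hx
  let c' := (c.map (IrreducibleCloseds.map i hi.continuous) hmap).snoc top (hbound _)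
  have h3 : ((n + 1 : ℕ) : WithBot ℕ∞) ≤ topologicalKrullDim ↥(closure ({y} : Set X)) :=
    Order.le_krullDim_iff.2 ⟨c', by simp [c', hc]⟩
  have h4 : ((n + 1 : ℕ) : WithBot ℕ∞) ≤ (n : WithBot ℕ∞) := h3.trans hy
  have h5 : (n + 1 : ℕ) ≤ n := by exact_mod_cast h4
  omega

theorem closureSupp_le {n : WithBot ℕ∞} {x : X} (hx : topologicalKrullDim ↥(closure {x}) ≤ n) :
    topologicalKrullDim ↥(CohB1.support (Cyc.closureStructureSheaf x)) ≤ n :=
  (dim_mono (support_closure x)).trans hx


/-- Classes of coherent modules of bounded dimension are combinations of classes of integral closed subschemes. -/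
theorem closure_eq (n : ℕ) :
    AddSubgroup.closure {c : KZero.K0sub (fun M : X.Modules => Coh.IsCoh M) | ∃ G : X.Modules, Coh.IsCoh G ∧
      topologicalKrullDim ↥(CohB1.support G) ≤ n ∧ c = C[G]} =
    AddSubgroup.closure {c : KZero.K0sub (fun M : X.Modules => Coh.IsCoh M) | ∃ x : ↥X,
      topologicalKrullDim ↥(closure ({x} : Set ↥X)) ≤ n ∧ c = C[Cyc.closureStructureSheaf x]} := by
  refine le_antisymm ((AddSubgroup.closure_le _).2 ?_) (AddSubgroup.closure_mono ?_)
  · rintro _ ⟨G, hG, hd, rfl⟩
    have hcl := Devissage.isClosed_support' hG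
    exact mem_of_generators hcl (AddSubgroup.closure {c : KZero.K0sub (fun M : X.Modules => Coh.IsCoh M) | ∃ x : ↥X,
      topologicalKrullDim ↥(closure ({x} : Set ↥X)) ≤ n ∧ c = C[Cyc.closureStructureSheaf x]})
      (fun N => C[N]) (fun N hN => cl_zero hN)
      (fun S hS a b c _ => cl_add hS a b c)
      (fun ξ hξ => AddSubgroup.subset_closure ⟨ξ, (dim_closure_le hcl hξ).trans hd, rfl⟩) G hG le_rfl
  · rintro _ ⟨x, hx, rfl⟩
    exact ⟨_, CycK0.isCoh_closureStructureSheaf x, closureSupp_le hx, rfl⟩

/-- The lower part of the dimension filtration. -/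
abbrev Low (X : Scheme.{u}) (n : ℕ) : AddSubgroup (KZero.K0sub (fun M : X.Modules => Coh.IsCoh M)) :=
  AddSubgroup.closure {c | ∃ G : X.Modules, Coh.IsCoh G ∧ topologicalKrullDim ↥(CohB1.support G) < n ∧
    c = KZero.clSub (fun M : X.Modules => Coh.IsCoh M) G}

open Classical in
/-- The multiplicity of a module at a point of dimension `n`, times the class of its closure. -/
def term (n : ℕ) (M : X.Modules) (x : X) : KZero.K0sub (fun M : X.Modules => Coh.IsCoh M) :=
  if topologicalKrullDim ↥(closure ({x} : Set ↥X)) = n then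
    (Module.length (X.presheaf.stalk x) (M.presheaf.stalk x)).toNat • C[Cyc.closureStructureSheaf x] else 0

theorem term_eq_zero {n : ℕ} {M : X.Modules} {x : X} (h : x ∉ CohB1.support M) : term n M x = 0 := by
  haveI : Subsingleton (M.presheaf.stalk x) := not_not.1 h
  unfold term
  split_ifs with hd
  · rw [Module.length_eq_zero, ENat.toNat_zero, zero_smul]
  · rfl

theorem maximal_of_dim {Y : Set X} (hY : IsClosed Y) {n : ℕ} (hd : topologicalKrullDim ↥Y ≤ n) {x : X}
    (hx : topologicalKrullDim ↥(closure ({x} : Set ↥X)) = n) {y : X} (hy : y ∈ Y) (hs : y ⤳ x) : y = x :=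
  eq_of_dim_le hs hx.ge ((dim_closure_le hY hy).trans hd)

theorem finite_top {Y : Set X} (hY : IsClosed Y) {n : ℕ} (hd : topologicalKrullDim ↥Y ≤ n) :
    {x : X | x ∈ Y ∧ topologicalKrullDim ↥(closure ({x} : Set ↥X)) = n}.Finite := by
  haveI : NoetherianSpace ↥Y := inferInstance
  refine Set.Finite.subset ((NoetherianSpace.finite_irreducibleComponents (α := ↥Y)).dependent_image
    fun Z (hZ : Z ∈ irreducibleComponents ↥Y) => ((hZ.1.image ((↑) : ↥Y → X)
      continuous_subtype_val.continuousOn).closure.genericPoint)) ?_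
  rintro x ⟨hxY, hx⟩
  have hZ := irreducibleComponent_mem_irreducibleComponents (⟨x, hxY⟩ : ↥Y)
  refine ⟨irreducibleComponent (⟨x, hxY⟩ : ↥Y), hZ, ?_⟩
  let T := (hZ.1.image ((↑) : ↥Y → X) continuous_subtype_val.continuousOn).closure
  have hg : IsGenericPoint T.genericPoint (closure (((↑) : ↥Y → X) '' irreducibleComponent (⟨x, hxY⟩ : ↥Y))) :=
    T.isGenericPoint_genericPoint isClosed_closure
  refine maximal_of_dim hY hd hx ?_ (hg.specializes (subset_closure ⟨_, mem_irreducibleComponent, rfl⟩))
  exact closure_minimal (Set.image_subset_iff.2 fun z _ => z.2) hY hg.mem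

theorem length_add {S : ShortComplex X.Modules} (hS : S.ShortExact) (x : X) :
    Module.length (X.presheaf.stalk x) (S.X₂.presheaf.stalk x) =
      Module.length (X.presheaf.stalk x) (S.X₁.presheaf.stalk x) +
        Module.length (X.presheaf.stalk x) (S.X₃.presheaf.stalk x) := by
  have h := hS.map_of_exact (DerSch.stalkFunctor X x)
  exact Module.length_eq_add_of_exact _ _ h.moduleCat_injective_f h.moduleCat_surjective_g
    ((ShortComplex.ShortExact.moduleCat_exact_iff_function_exact _).1 h.exact)

/-- A coherent module is its top dimensional cycle modulo lower dimension. -/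
theorem sub_sum_mem (n : ℕ) (F : X.Modules) (hF : Coh.IsCoh F)
    (hd : topologicalKrullDim ↥(CohB1.support F) ≤ n) : C[F] - finsum (term n F) ∈ Low X n := by
  let Y := CohB1.support F
  have hY : IsClosed Y := Devissage.isClosed_support' hF
  let T : Finset X := (finite_top hY hd).toFinset
  have hsum : ∀ M : X.Modules, CohB1.support M ⊆ Y → finsum (term n M) = ∑ x ∈ T, term n M x := fun M hM => by
    refine finsum_eq_finsetSum_of_support_subset _ fun x hx => ?_
    rw [Set.Finite.coe_toFinset]
    refine ⟨hM (by_contra fun hxs => hx (term_eq_zero hxs)), by_contra fun hxd => hx ?_⟩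
    unfold term
    rw [if_neg hxd]
  let Φ : X.Modules → KZero.K0sub (fun M : X.Modules => Coh.IsCoh M) := fun M => C[M] - ∑ x ∈ T, term n M x
  suffices H : Φ F ∈ Low X n by rwa [hsum F le_rfl]
  refine mem_of_generators hY _ Φ (fun N hN => ?_) (fun S hS c₁ c₂ c₃ hs => ?_) (fun ξ hξ => ?_) F hF le_rfl
  · show C[N] - _ = 0
    rw [cl_zero hN, Finset.sum_eq_zero fun x _ => term_eq_zero fun h => ?_, sub_zero]
    exact (ClSubLib.notMem_support_iff_isZero N x).2 ((DerSch.stalkFunctor X x).map_isZero hN) h
  · show C[S.X₂] - _ = (C[S.X₁] - _) + (C[S.X₃] - _)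
    have key : ∀ x ∈ T, term n S.X₂ x = term n S.X₁ x + term n S.X₃ x := fun x hx => by
      obtain ⟨hxY, hxd⟩ := (finite_top hY hd).mem_toFinset.1 hx
      have hl := length_add hS x
      have h2 : Module.length (X.presheaf.stalk x) (S.X₂.presheaf.stalk x) < ⊤ :=
        CycDim.length_stalk_module_lt_top S.X₂ c₂.1 c₂.2 fun y hy hyx =>
          maximal_of_dim hY hd hxd (hs (not_subsingleton_iff_nontrivial.2 hy)) hyx
      unfold term
      rw [if_pos hxd, if_pos hxd, if_pos hxd, ← add_smul, hl, ENat.toNat_add]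
      · exact ne_top_of_le_ne_top h2.ne (hl ▸ le_self_add)
      · exact ne_top_of_le_ne_top h2.ne (hl ▸ le_add_self)
    rw [cl_add hS c₁ c₂ c₃, Finset.sum_congr rfl key, Finset.sum_add_distrib]
    abel
  · show C[Cyc.closureStructureSheaf ξ] - _ ∈ Low X n
    have hsub : CohB1.support (Cyc.closureStructureSheaf ξ) ⊆ Y :=
      (support_closure ξ).trans (closure_minimal (Set.singleton_subset_iff.2 hξ) hY)
    by_cases hξd : topologicalKrullDim ↥(closure ({ξ} : Set X)) = n
    · rw [Finset.sum_eq_single ξ]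
      · unfold term
        rw [if_pos hξd, CycK0.length_closure, ENat.toNat_one, one_smul, sub_self]
        exact AddSubgroup.zero_mem _
      · intro x hx hne
        refine term_eq_zero fun hxs => hne ?_
        exact (maximal_of_dim hY hd ((finite_top hY hd).mem_toFinset.1 hx).2 hξ
          (specializes_iff_mem_closure.2 (support_closure ξ hxs))).symm
      · intro hnot
        exact absurd ((finite_top hY hd).mem_toFinset.2 ⟨hξ, hξd⟩) hnot
    · rw [Finset.sum_eq_zero fun x hx => ?_, sub_zero]
      · exact AddSubgroup.subset_closure ⟨_, CycK0.isCoh_closureStructureSheaf ξ,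
          (dim_mono (support_closure ξ)).trans_lt (lt_of_le_of_ne ((dim_closure_le hY hξ).trans hd) hξd), rfl⟩
      · refine term_eq_zero fun hxs => hξd ?_
        have h1 := maximal_of_dim hY hd ((finite_top hY hd).mem_toFinset.1 hx).2 hξ
          (specializes_iff_mem_closure.2 (support_closure ξ hxs))
        rw [h1]
        exact ((finite_top hY hd).mem_toFinset.1 hx).2

theorem length_tensor (E F : X.Modules) (e : ℕ) (hE : FlatMod.IsFinLocFreeOfRank e E) (x : X) :
    Module.length (X.presheaf.stalk x) ((CohB1.tensorMod E F).presheaf.stalk x) =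
      e * Module.length (X.presheaf.stalk x) (F.presheaf.stalk x) := by
  classical
  obtain ⟨W, hxW, ⟨i⟩⟩ := hE x
  obtain ⟨b⟩ := LocFree.exists_basis_stalk i
    (LocFree.isQCoh_of_isFinLocFree fun y => let ⟨U, hU, h⟩ := hE y; ⟨U, e, hU, h⟩) hxW
  refine ((KFlat.stTensorIso E F x).toLinearEquiv.length_eq).symm.trans ?_
  have h1 : ↥(E.presheaf.stalk x) ⊗[↥(X.presheaf.stalk x)] ↥(F.presheaf.stalk x) ≃ₗ[↥(X.presheaf.stalk x)]
      (ULift.{u} (Fin e) →₀ ↥(F.presheaf.stalk x)) :=
    (TensorProduct.congr b.repr (LinearEquiv.refl _ _)).trans (TensorProduct.finsuppScalarLeft _ _ _)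
  refine (h1.trans (Finsupp.linearEquivFunOnFinite _ _ _)).length_eq.trans ?_
  rw [Module.length_pi_of_fintype, Finset.sum_const, Finset.card_univ, Fintype.card_ulift, Fintype.card_fin,
    nsmul_eq_mul]

/-- Tensoring with a locally free module multiplies classes by the rank modulo lower dimension. -/
theorem tensor_sub_mem (E : X.Modules) (e : ℕ) (hE : FlatMod.IsFinLocFreeOfRank e E) (F : X.Modules)
    (hF : Coh.IsCoh F) (r : ℕ) (hr : topologicalKrullDim (CohB1.support F) ≤ r) :
    C[CohB1.tensorMod E F] - e • C[F] ∈ Low X r := by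
  have hEc : Coh.IsCoh E := K0Coh.isCoh_of_isFinLocFree fun y => let ⟨U, hU, h⟩ := hE y; ⟨U, e, hU, h⟩
  have hT : Coh.IsCoh (CohB1.tensorMod E F) := by
    haveI : Coh.IsQCoh E := hEc.1
    haveI : Coh.IsQCoh F := hF.1
    exact ⟨(Groth.Agent.S2297.result E F).1, (Groth.Agent.S2297.result E F).2 hEc.2 hF.2⟩
  have hsupp : CohB1.support (CohB1.tensorMod E F) ⊆ CohB1.support F := fun x hx => by_contra fun hxF => by
    haveI : Subsingleton (F.presheaf.stalk x) := not_not.1 hxF
    refine hx ?_
    refine Module.length_eq_zero_iff (R := X.presheaf.stalk x) |>.1 ?_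
    rw [length_tensor E F e hE, Module.length_eq_zero, mul_zero]
  have h1 := sub_sum_mem r _ hT ((dim_mono hsupp).trans hr)
  have h2 := sub_sum_mem r F hF hr
  have h3 : finsum (term r (CohB1.tensorMod E F)) = e • finsum (term r F) := by
    have hY : IsClosed (CohB1.support F) := Devissage.isClosed_support' hF
    have hfin : (Function.support (term r F)).Finite := (finite_top hY hr).subset fun x hx =>
      ⟨by_contra fun hxs => hx (term_eq_zero hxs), by_contra fun hxd => hx (by unfold term; rw [if_neg hxd])⟩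
    rw [show e • finsum (term r F) = (nsmulAddMonoidHom (α := KZero.K0sub (fun M : X.Modules => Coh.IsCoh M)) e)
      (finsum (term r F)) from rfl, AddMonoidHom.map_finsum _ hfin]
    refine finsum_congr fun x => ?_
    show _ = e • term r F x
    unfold term
    split_ifs with hd
    · rw [length_tensor E F e hE, smul_smul, ENat.toNat_mul, ENat.toNat_coe]
    · rw [smul_zero]
  have h4 : C[CohB1.tensorMod E F] - e • C[F] =
      (C[CohB1.tensorMod E F] - finsum (term r (CohB1.tensorMod E F))) - e • (C[F] - finsum (term r F)) := by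
    rw [h3, smul_sub]
    abel
  rw [h4]
  exact AddSubgroup.sub_mem _ h1 (AddSubgroup.nsmul_mem _ h2 e)

end Groth.Agent.K0Filt
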