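import Groth.Agent.K0Dev.Scheme
import Groth.Agent.K0Coh.Basic
import Groth.Prelude.Def_SGA6

/-!
# Functoriality of the Grothendieck group of coherent modules
-/

set_option autoImplicit false
set_option linter.style.haveILetI false
set_option backward.isDefEq.respectTransparency false
set_option backward.isDefEq.respectTransparency.types false

universe u v w

open CategoryTheory CategoryTheory.Limits AlgebraicGeometry

noncomputable section

attribute [local instance] Abelian.hasFiniteBiproducts

namespace Groth.Agent.K0Filt

variable {A : Type u} [Category.{v} A] [Abelian A] {B : Type w} [Category.{v} B] [Abelian B] (F : A ⥤ B) [F.Additive]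
  [PreservesFiniteLimits F] [PreservesFiniteColimits F] (P : ObjectProperty A) (Q : ObjectProperty B)
  (h : ∀ X, P X → Q (F.obj X))

theorem mapSub_cl {X : A} (hX : P X) : SGA6.mapSub F P Q h (KZero.clSub P X) = KZero.clSub Q (F.obj X) := by
  rw [KZero.clSub, dif_pos hX, KZero.clSub, dif_pos (h X hX)]
  rfl

theorem hom_ext_cl {M : Type*} [AddCommGroup M] {f g : KZero.K0sub P →+ M}
    (e : ∀ X, P X → f (KZero.clSub P X) = g (KZero.clSub P X)) : f = g := by
  refine DFunLike.ext _ _ fun x => ?_
  obtain ⟨x, rfl⟩ := QuotientAddGroup.mk_surjective x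
  induction x using FreeAbelianGroup.induction_on with
  | zero => rw [QuotientAddGroup.mk_zero, map_zero, map_zero]
  | of G =>
    have h2 := e G.1 G.2
    rw [KZero.clSub, dif_pos G.2] at h2
    exact h2
  | neg G h => rw [QuotientAddGroup.mk_neg, map_neg, map_neg, h]
  | add a b ha hb => rw [QuotientAddGroup.mk_add, map_add, map_add, ha, hb]

/-- Pushforward along a surjective closed immersion is bijective on the Grothendieck groups of coherent modules. -/
theorem bijective_push {X X' : Scheme.{u}} [IsNoetherian X] (i : X' ⟶ X) [IsClosedImmersion i] [Surjective i]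
    [(Scheme.Modules.pushforward i).Additive] [PreservesFiniteLimits (Scheme.Modules.pushforward i)]
    [PreservesFiniteColimits (Scheme.Modules.pushforward i)]
    (hi : ∀ M : X'.Modules, Coh.IsCoh M → Coh.IsCoh ((Scheme.Modules.pushforward i).obj M)) :
    Function.Bijective (SGA6.mapSub (Scheme.Modules.pushforward i) (fun M : (X').Modules => Coh.IsCoh M)
      (fun M : (X).Modules => Coh.IsCoh M) hi) := by
  have hP : (K0Dev.Supp i) = fun M : X.Modules => Coh.IsCoh M :=
    funext fun M => propext ⟨fun h => h.1, fun h => ⟨h, fun x _ => i.surjective x⟩⟩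
  have key : ∀ Q : ObjectProperty X.Modules, K0Dev.Supp i = Q →
      ∃ φ : KZero.K0sub (fun M : X'.Modules => Coh.IsCoh M) ≃+ KZero.K0sub Q,
        ∀ M : X'.Modules, Coh.IsCoh M → φ (KZero.clSub (fun M : X'.Modules => Coh.IsCoh M) M) =
          KZero.clSub Q ((Scheme.Modules.pushforward i).obj M) := by
    rintro Q rfl
    exact K0Dev.exists_equiv_closed i
  obtain ⟨φ, hφ⟩ := key _ hP
  have e : SGA6.mapSub (Scheme.Modules.pushforward i) (fun M : (X').Modules => Coh.IsCoh M)
      (fun M : (X).Modules => Coh.IsCoh M) hi = φ.toAddMonoidHom :=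
    hom_ext_cl _ fun M hM => (mapSub_cl _ _ _ hi hM).trans (hφ M hM).symm
  rw [e]
  exact φ.bijective

end Groth.Agent.K0Filt
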