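import Groth.Agent.K0Filt.Push
import Groth.Agent.K0Filt.Basic
import Groth.Agent.SupportLib.Pull
import Groth.Agent.S2250
import Groth.Agent.S2252
import Groth.Agent.LocImmFT.Main

/-!
# The localization sequence for the Grothendieck group of coherent modules
-/

set_option autoImplicit false
set_option linter.style.haveILetI false
set_option linter.unusedSectionVars false
set_option backward.isDefEq.respectTransparency false
set_option backward.isDefEq.respectTransparency.types false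

universe u

open CategoryTheory CategoryTheory.Limits AlgebraicGeometry TopologicalSpace ZeroObject

noncomputable section

attribute [local instance] Abelian.hasFiniteBiproducts

namespace Groth.Agent.K0Filt

variable {X : Scheme.{u}} [IsNoetherian X]

local notation "C[" M "]" => KZero.clSub (fun N : _ => Coh.IsCoh N) M

theorem cl_congr {Y : Scheme.{u}} [IsNoetherian Y] {M N : Y.Modules} (e : M ≅ N) (hM : Coh.IsCoh M) :
    C[M] = C[N] := by
  have h0 := K0Coh.isCoh_of_isZero (isZero_zero Y.Modules)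
  have h := cl_add (S := ShortComplex.mk e.hom (0 : N ⟶ (0 : Y.Modules)) comp_zero)
    { exact := (ShortComplex.mk e.hom (0 : N ⟶ (0 : Y.Modules)) comp_zero).exact_iff_epi rfl |>.2 inferInstance
      mono_f := inferInstanceAs (Mono e.hom)
      epi_g := ⟨fun _ _ _ => (isZero_zero Y.Modules).eq_of_src _ _⟩ }
    hM (K0Coh.isCoh_of_iso e hM) h0
  exact (h.trans (by rw [cl_zero (isZero_zero Y.Modules), add_zero])).symm

theorem noetherianSpace_cover (X : Scheme.{u}) [IsNoetherian X] (x : X) :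
    ∃ U : X.Opens, x ∈ U ∧ TopologicalSpace.NoetherianSpace (U : Set X) := ⟨⊤, trivial, inferInstance⟩

/-- A homomorphism between restrictions of coherent modules is induced by a roof. -/
theorem exists_roof (U : X.Opens) (F₁ F₂ : X.Modules) (h₁ : Coh.IsCoh F₁) (h₂ : Coh.IsCoh F₂)
    (φ : F₁.restrict U.ι ⟶ F₂.restrict U.ι) : ∃ (G : X.Modules) (p₁ : G ⟶ F₁) (p₂ : G ⟶ F₂),
      Coh.IsCoh G ∧ IsIso ((Scheme.Modules.restrictFunctor U.ι).map p₁) ∧
      (Scheme.Modules.restrictFunctor U.ι).map p₂ = (Scheme.Modules.restrictFunctor U.ι).map p₁ ≫ φ := by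
  let R := Scheme.Modules.restrictFunctor U.ι
  have hB : Coh.IsCoh (F₁ ⊞ F₂) := W7Exist.isCoh_biprod h₁ h₂
  let i : F₁.restrict U.ι ⟶ R.obj (F₁ ⊞ F₂) := R.map biprod.inl + φ ≫ R.map biprod.inr
  have h1 : i ≫ R.map biprod.fst = 𝟙 _ := by
    simp only [i, Preadditive.add_comp, Category.assoc, ← R.map_comp, biprod.inl_fst, biprod.inr_fst,
      R.map_id, R.map_zero, comp_zero, add_zero]
    exact R.map_id _
  have h2 : i ≫ R.map biprod.snd = φ := by
    simp only [i, Preadditive.add_comp, Category.assoc, ← R.map_comp, biprod.inl_snd, biprod.inr_snd,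
      R.map_zero, zero_add, R.map_id]
    exact Category.comp_id _
  haveI : Mono i := mono_of_mono_fac h1
  haveI : Coh.IsQCoh (F₁ ⊞ F₂) := hB.1
  haveI : Coh.IsQCoh (F₁.restrict U.ι) := QC.isQCoh_restrict U.ι h₁.1
  obtain ⟨G, i', e, -, hq, hf, he⟩ := Groth.Agent.S2250.result (noetherianSpace_cover X) U (F₁ ⊞ F₂)
    (F₁.restrict U.ι) i (QC.isFT_restrict U.ι h₁.2)
  have e1 : R.map (i' ≫ biprod.fst) = e.hom := by
    rw [R.map_comp, ← he, Category.assoc, h1]
    exact Category.comp_id _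
  refine ⟨G, i' ≫ biprod.fst, i' ≫ biprod.snd, ⟨hq, hf⟩, ?_, ?_⟩
  · show IsIso (R.map (i' ≫ biprod.fst))
    rw [e1]; infer_instance
  · show R.map (i' ≫ biprod.snd) = R.map (i' ≫ biprod.fst) ≫ φ
    rw [e1, R.map_comp, ← he, Category.assoc, h2]

theorem exists_roof_iso (U : X.Opens) (F₁ F₂ : X.Modules) (h₁ : Coh.IsCoh F₁) (h₂ : Coh.IsCoh F₂)
    (φ : F₁.restrict U.ι ≅ F₂.restrict U.ι) : ∃ (G : X.Modules) (p₁ : G ⟶ F₁) (p₂ : G ⟶ F₂),
      Coh.IsCoh G ∧ IsIso ((Scheme.Modules.restrictFunctor U.ι).map p₁) ∧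
      IsIso ((Scheme.Modules.restrictFunctor U.ι).map p₂) := by
  obtain ⟨G, p₁, p₂, hG, hp, h⟩ := exists_roof U F₁ F₂ h₁ h₂ φ.hom
  refine ⟨G, p₁, p₂, hG, hp, ?_⟩
  rw [h]; infer_instance

variable {X' : Scheme.{u}} (i : X' ⟶ X) [IsClosedImmersion i]
  [(Scheme.Modules.pushforward i).Additive] [PreservesFiniteLimits (Scheme.Modules.pushforward i)]
  [PreservesFiniteColimits (Scheme.Modules.pushforward i)]
  (hi : ∀ M : X'.Modules, Coh.IsCoh M → Coh.IsCoh ((Scheme.Modules.pushforward i).obj M))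

/-- The classes pushed forward from the closed subscheme. -/
abbrev Rg : AddSubgroup (KZero.K0sub (fun M : X.Modules => Coh.IsCoh M)) :=
  (SGA6.mapSub (Scheme.Modules.pushforward i) (fun M : (X').Modules => Coh.IsCoh M)
    (fun M : (X).Modules => Coh.IsCoh M) hi).range

/-- The class of a module supported in the closed subscheme comes from it. -/
theorem cl_mem_range {F : X.Modules} (hF : K0Dev.Supp i F) : C[F] ∈ Rg i hi := by
  obtain ⟨φ, hφ⟩ := K0Dev.exists_equiv_closed i
  let ν := SGA6.mapSub (𝟭 X.Modules) (K0Dev.Supp i) (fun M : X.Modules => Coh.IsCoh M) fun M h => h.1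
  have e : ν.comp φ.toAddMonoidHom = SGA6.mapSub (Scheme.Modules.pushforward i)
      (fun M : (X').Modules => Coh.IsCoh M) (fun M : (X).Modules => Coh.IsCoh M) hi :=
    hom_ext_cl _ fun M hM => by
      rw [mapSub_cl _ _ _ hi hM]
      show ν (φ _) = _
      rw [hφ M hM]
      exact mapSub_cl _ _ _ _ (⟨hi M hM, fun x hn => by_contra fun hx => not_subsingleton _
        (not_not.1 ((ClSubLib.notMem_support_iff_isZero _ x).2 (K0Dev.isZero_push_st i M hx)))⟩ :
          K0Dev.Supp i ((Scheme.Modules.pushforward i).obj M))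
  refine ⟨φ.symm (KZero.clSub (K0Dev.Supp i) F), ?_⟩
  rw [← e]
  show ν (φ (φ.symm _)) = _
  rw [φ.apply_symm_apply]
  exact mapSub_cl _ _ _ _ hF

theorem supp_of_isZero_restrict (U : X.Opens) (hU : (U : Set X) = (Set.range i)ᶜ) {F : X.Modules}
    (hF : Coh.IsCoh F) (h : IsZero (F.restrict U.ι)) : K0Dev.Supp i F := by
  refine (K0Dev.supp_iff i hF).2 fun x hx => (ClSubLib.notMem_support_iff_isZero F x).1 fun hxs => ?_
  have hxU : x ∈ (U : Set X) := by rw [hU]; exact hx
  haveI : Coh.IsQCoh F := hF.1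
  have h1 : (⟨x, hxU⟩ : U) ∈ CohB1.support ((Scheme.Modules.pullback U.ι).obj F) := by
    rw [SupportLib.support_pullback U.ι F hF.2]; exact hxs
  exact K0Coh.support_of_isZero (h.of_iso ((Scheme.Modules.restrictFunctorIsoPullback U.ι).app F).symm) ∅ h1

/-- Modules agreeing on the complement have congruent classes. -/
theorem sub_mem_of_isIso (U : X.Opens) (hU : (U : Set X) = (Set.range i)ᶜ) {G F : X.Modules}
    (hG : Coh.IsCoh G) (hF : Coh.IsCoh F) (p : G ⟶ F)
    [IsIso ((Scheme.Modules.restrictFunctor U.ι).map p)] : C[G] - C[F] ∈ Rg i hi := by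
  let R := Scheme.Modules.restrictFunctor U.ι
  have hk : IsZero (R.obj (kernel p)) := by
    haveI : Mono (R.map (kernel.ι p)) := inferInstance
    refine IsZero.of_mono_eq_zero (R.map (kernel.ι p)) ((cancel_mono (R.map p)).1 ?_)
    rw [← R.map_comp, kernel.condition, R.map_zero, zero_comp]
  have hc : IsZero (R.obj (cokernel p)) := by
    haveI : Epi (R.map (cokernel.π p)) := inferInstance
    refine IsZero.of_epi_eq_zero (R.map (cokernel.π p)) ((cancel_epi (R.map p)).1 ?_)
    rw [← R.map_comp, cokernel.condition, R.map_zero, comp_zero]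
  have cK := QC.isCoh_kernel hG hF.1 p
  have cC := QC.isCoh_cokernel hG.1 hF p
  have cI : Coh.IsCoh (Abelian.image p) := QC.isCoh_kernel hF cC.1 (cokernel.π p)
  have cJ : Coh.IsCoh (Abelian.coimage p) := QC.isCoh_cokernel cK.1 hG (kernel.ι p)
  have e1 : C[G] = C[kernel p] + C[Abelian.coimage p] :=
    cl_add (S := ShortComplex.mk (kernel.ι p) (cokernel.π (kernel.ι p)) (cokernel.condition _))
      { exact := ShortComplex.exact_of_g_is_cokernel _ (cokernelIsCokernel _)
        mono_f := inferInstanceAs (Mono (kernel.ι p))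
        epi_g := inferInstanceAs (Epi (cokernel.π (kernel.ι p))) } cK hG cJ
  have e2 : C[F] = C[Abelian.image p] + C[cokernel p] :=
    cl_add (S := ShortComplex.mk (kernel.ι (cokernel.π p)) (cokernel.π p) (kernel.condition _))
      { exact := ShortComplex.exact_of_f_is_kernel _ (kernelIsKernel _)
        mono_f := inferInstanceAs (Mono (kernel.ι (cokernel.π p)))
        epi_g := inferInstanceAs (Epi (cokernel.π p)) } cI hF cC
  rw [e1, e2, cl_congr (Abelian.coimageIsoImage p) cJ, show ∀ a b c : KZero.K0sub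
    (fun M : X.Modules => Coh.IsCoh M), a + b - (b + c) = a - c from fun a b c => by abel]
  exact AddSubgroup.sub_mem _ (cl_mem_range i hi (supp_of_isZero_restrict i U hU cK hk))
    (cl_mem_range i hi (supp_of_isZero_restrict i U hU cC hc))

/-- The localization sequence, for the open subscheme itself. -/
theorem localization (U : X.Opens) (hU : (U : Set X) = (Set.range i)ᶜ)
    (hj : ∀ M : X.Modules, Coh.IsCoh M → Coh.IsCoh ((Scheme.Modules.restrictFunctor U.ι).obj M)) :
    Function.Surjective (SGA6.mapSub (Scheme.Modules.restrictFunctor U.ι) (fun M : (X).Modules => Coh.IsCoh M)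
      (fun M : (U.toScheme).Modules => Coh.IsCoh M) hj) ∧
    (SGA6.mapSub (Scheme.Modules.restrictFunctor U.ι) (fun M : (X).Modules => Coh.IsCoh M)
      (fun M : (U.toScheme).Modules => Coh.IsCoh M) hj).ker = Rg i hi := by
  let R := Scheme.Modules.restrictFunctor U.ι
  let res := SGA6.mapSub (Scheme.Modules.restrictFunctor U.ι) (fun M : (X).Modules => Coh.IsCoh M)
      (fun M : (U.toScheme).Modules => Coh.IsCoh M) hj
  haveI : IsNoetherian U.toScheme := LocImmFT.isNoetherian_opens U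
  have hext : ∀ M : U.toScheme.Modules, Coh.IsCoh M → ∃ E : X.Modules, Coh.IsCoh E ∧ Nonempty (R.obj E ≅ M) :=
    fun M hM => by
      haveI : Coh.IsQCoh M := hM.1
      obtain ⟨E, h1, h2, h3⟩ := Groth.Agent.S2252.result (noetherianSpace_cover X) U M hM.2
      exact ⟨E, ⟨h1, h2⟩, h3⟩
  let q := QuotientAddGroup.mk' (Rg i hi)
  have hwd : ∀ F₁ F₂ : X.Modules, Coh.IsCoh F₁ → Coh.IsCoh F₂ → (R.obj F₁ ≅ R.obj F₂) → q C[F₁] = q C[F₂] := by
    intro F₁ F₂ h₁ h₂ φ
    obtain ⟨G, p₁, p₂, hG, hp₁, hp₂⟩ := exists_roof_iso U F₁ F₂ h₁ h₂ φ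
    have a₁ := (QuotientAddGroup.eq_zero_iff _).2 (sub_mem_of_isIso i hi U hU hG h₁ p₁)
    have a₂ := (QuotientAddGroup.eq_zero_iff _).2 (sub_mem_of_isIso i hi U hU hG h₂ p₂)
    have b₁ : q C[G] = q C[F₁] := sub_eq_zero.1 ((map_sub q _ _).symm.trans a₁)
    have b₂ : q C[G] = q C[F₂] := sub_eq_zero.1 ((map_sub q _ _).symm.trans a₂)
    rw [← b₁, b₂]
  choose E hE hEi using hext
  let g : Subtype (fun M : U.toScheme.Modules => Coh.IsCoh M) → _ := fun M => q C[E M.1 M.2]
  have hrel : KZero.relSub (fun M : U.toScheme.Modules => Coh.IsCoh M) ≤ (FreeAbelianGroup.lift g).ker := by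
    refine (AddSubgroup.closure_le _).2 ?_
    rintro _ ⟨S, c₁, c₂, c₃, hS, rfl⟩
    rw [SetLike.mem_coe, AddMonoidHom.mem_ker, map_sub, map_sub, FreeAbelianGroup.lift_apply_of,
      FreeAbelianGroup.lift_apply_of, FreeAbelianGroup.lift_apply_of]
    show q C[E S.X₂ c₂] - q C[E S.X₁ c₁] - q C[E S.X₃ c₃] = 0
    obtain ⟨a₁⟩ := hEi S.X₁ c₁
    obtain ⟨a₂⟩ := hEi S.X₂ c₂
    obtain ⟨a₃⟩ := hEi S.X₃ c₃
    haveI := hS.mono_f
    haveI : Coh.IsQCoh (E S.X₂ c₂) := (hE _ c₂).1
    haveI : Coh.IsQCoh S.X₁ := c₁.1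
    obtain ⟨G, i', e, hm, hq, hf, he⟩ := Groth.Agent.S2250.result (noetherianSpace_cover X) U (E S.X₂ c₂)
      S.X₁ (S.f ≫ a₂.inv) c₁.2
    have cC := QC.isCoh_cokernel (φ := i') hq (hE _ c₂)
    have h := congrArg q (cl_add (S := ShortComplex.mk i' (cokernel.π i') (cokernel.condition _))
      { exact := ShortComplex.exact_of_g_is_cokernel _ (cokernelIsCokernel _)
        mono_f := hm
        epi_g := inferInstanceAs (Epi (cokernel.π i')) } ⟨hq, hf⟩ (hE _ c₂) cC)
    rw [map_add] at h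
    haveI := hS.epi_g
    have w : R.map i' ≫ a₂.hom = e.hom ≫ S.f := by
      rw [← he, Category.assoc, Category.assoc, a₂.inv_hom_id]
      exact congrArg (e.hom ≫ ·) (Category.comp_id _)
    have b₁ : q C[G] = q C[E S.X₁ c₁] := hwd _ _ ⟨hq, hf⟩ (hE _ c₁) (e ≪≫ a₁.symm)
    have b₃ : q C[cokernel i'] = q C[E S.X₃ c₃] := hwd _ _ cC (hE _ c₃)
      (PreservesCokernel.iso R i' ≪≫ cokernel.mapIso (R.map i') S.f e a₂ w ≪≫
        (cokernelIsCokernel S.f).coconePointUniqueUpToIso hS.gIsCokernel ≪≫ a₃.symm)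
    rw [← b₁, ← b₃, show q C[E S.X₂ c₂] = _ from h]
    abel
  let ψ := QuotientAddGroup.lift (KZero.relSub (fun M : U.toScheme.Modules => Coh.IsCoh M)) _ hrel
  have hψ : ψ.comp res = q := hom_ext_cl _ fun F hF => by
    show ψ (res _) = _
    rw [show res C[F] = C[R.obj F] from mapSub_cl _ _ _ hj hF, KZero.clSub, dif_pos (hj F hF)]
    show FreeAbelianGroup.lift g (FreeAbelianGroup.of _) = _
    rw [FreeAbelianGroup.lift_apply_of]
    obtain ⟨a⟩ := hEi (R.obj F) (hj F hF)
    exact hwd _ _ (hE _ (hj F hF)) hF a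
  have hzero : ∀ M : X'.Modules, Coh.IsCoh M → IsZero (R.obj ((Scheme.Modules.pushforward i).obj M)) := fun M hM => by
    refine (K0Dev.isZero_iff_stalks _).2 fun v => (ClSubLib.notMem_support_iff_isZero _ v).1 fun hv => ?_
    have hv' : v.1 ∈ (U : Set X) := v.2
    rw [hU] at hv'
    rw [ClSubLib.support_congr ((Scheme.Modules.restrictFunctorIsoPullback U.ι).app _)] at hv
    exact (ClSubLib.notMem_support_iff_isZero _ _).2 (K0Dev.isZero_push_st i M hv')
      (ClSubLib.support_pullback_subset U.ι _ hv)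
  refine ⟨fun y => ?_, le_antisymm (fun x hx => ?_) ?_⟩
  · obtain ⟨y, rfl⟩ := QuotientAddGroup.mk_surjective y
    induction y using FreeAbelianGroup.induction_on with
    | zero => exact ⟨0, map_zero _⟩
    | of M =>
      obtain ⟨a⟩ := hEi M.1 M.2
      refine ⟨C[E M.1 M.2], ?_⟩
      rw [mapSub_cl _ _ _ hj (hE _ M.2), cl_congr a (hj _ (hE _ M.2)), KZero.clSub, dif_pos M.2]
    | neg M h => exact h.elim fun a ha => ⟨-a, by rw [map_neg, ha]; rfl⟩
    | add a b ha hb => exact ha.elim fun a ha => hb.elim fun b hb => ⟨a + b, by rw [map_add, ha, hb]; rfl⟩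
  · refine (QuotientAddGroup.eq_zero_iff x).1 ?_
    show q x = 0
    rw [← hψ, AddMonoidHom.comp_apply, show res x = 0 from hx, map_zero]
  · rintro _ ⟨x, rfl⟩
    show res _ = 0
    rw [← AddMonoidHom.comp_apply]
    refine DFunLike.congr_fun (hom_ext_cl _ (g := 0) fun M hM => ?_) x
    show res (_ : KZero.K0sub _) = 0
    rw [mapSub_cl _ _ _ hi hM]
    show res C[(Scheme.Modules.pushforward i).obj M] = 0
    rw [show res C[(Scheme.Modules.pushforward i).obj M] = C[R.obj ((Scheme.Modules.pushforward i).obj M)] from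
      mapSub_cl _ _ _ hj (hi M hM), cl_zero (hzero M hM)]

end Groth.Agent.K0Filt

namespace Groth.Agent.K0Filt

variable {X : Scheme.{u}} [IsNoetherian X]

theorem isCoh_restrict {Y : Scheme.{u}} (f : Y ⟶ X) [IsOpenImmersion f] (M : X.Modules) (h : Coh.IsCoh M) :
    Coh.IsCoh ((Scheme.Modules.restrictFunctor f).obj M) :=
  ⟨QC.isQCoh_restrict f h.1, QC.isFT_restrict f h.2⟩

/-- Restriction along an open immersion on classes. -/
abbrev resK {Y : Scheme.{u}} (f : Y ⟶ X) [IsOpenImmersion f] :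
    KZero.K0sub (fun M : X.Modules => Coh.IsCoh M) →+ KZero.K0sub (fun M : Y.Modules => Coh.IsCoh M) :=
  SGA6.mapSub (Scheme.Modules.restrictFunctor f) (fun M : (X).Modules => Coh.IsCoh M)
    (fun M : (Y).Modules => Coh.IsCoh M) (isCoh_restrict f)

theorem resK_comp {Y Z : Scheme.{u}} [IsNoetherian Y] [IsNoetherian Z] (g : Z ⟶ Y) [IsOpenImmersion g] (f : Y ⟶ X)
    [IsOpenImmersion f] (h : Z ⟶ X) [IsOpenImmersion h] (e : g ≫ f = h) (x : KZero.K0sub (fun M : X.Modules => Coh.IsCoh M)) :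
    resK h x = resK g (resK f x) := by
  refine DFunLike.congr_fun (hom_ext_cl _ (g := (resK g).comp (resK f)) fun M hM => ?_) x
  show resK h _ = resK g (resK f _)
  unfold resK
  rw [mapSub_cl _ _ _ _ hM, mapSub_cl _ _ _ _ hM, mapSub_cl _ _ _ _ (isCoh_restrict f M hM)]
  exact cl_congr ((Scheme.Modules.restrictFunctorCongr e.symm ≪≫ Scheme.Modules.restrictFunctorComp g f).app M)
    (isCoh_restrict h M hM)

theorem resK_id (x : KZero.K0sub (fun M : X.Modules => Coh.IsCoh M)) : resK (𝟙 X) x = x := by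
  refine DFunLike.congr_fun (hom_ext_cl _ (g := AddMonoidHom.id _) fun M hM => ?_) x
  show resK (𝟙 X) _ = _
  unfold resK
  rw [mapSub_cl _ _ _ _ hM]
  exact cl_congr (Scheme.Modules.restrictFunctorId.app M) (isCoh_restrict _ M hM)

theorem resK_bijective {Y : Scheme.{u}} [IsNoetherian Y] (w : Y ≅ X) : Function.Bijective (resK w.hom) :=
  Function.bijective_iff_has_inverse.2 ⟨resK w.inv,
    fun x => ((resK_comp w.inv w.hom (𝟙 X) w.inv_hom_id x).symm.trans (resK_id x)),
    fun y => ((resK_comp w.hom w.inv (𝟙 Y) w.hom_inv_id y).symm.trans (resK_id y))⟩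

end Groth.Agent.K0Filt
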